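import Groth.Agent.ExtShX.Resolution
import Mathlib

/-!
# The internal Hom into an injective module, followed by direct image, is exact
-/

set_option autoImplicit false
set_option linter.style.haveILetI false
set_option backward.isDefEq.respectTransparency false
set_option backward.isDefEq.respectTransparency.types false

universe u

open CategoryTheory CategoryTheory.Limits AlgebraicGeometry TopologicalSpace Opposite
open Groth.Agent.ExtShX

noncomputable section

namespace Groth.Agent.RelExtLES

variable {X : Scheme.{u}}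

/-- A map of modules is surjective on sections if it lifts maps from the free modules on opens. -/
theorem app_surjective_of_freeOn {M N : X.Modules} (g : M ⟶ N)
    (h : ∀ (U : X.Opens) (a : freeOn U ⟶ N), ∃ b, b ≫ g = a) (U : X.Opens) :
    Function.Surjective (g.app U) := by
  intro s
  have hWU : U.ι ''ᵁ ⊤ = U := U.ι_image_top
  let e := ParaFX.homSectionsEquiv (N.restrict U.ι)
  let s' : Γ(N, U.ι ''ᵁ ⊤) := N.presheaf.map (homOfLE hWU.le).op s
  obtain ⟨b, hb⟩ := h U (((KFlatLib.lshAdj U.ι).homEquiv _ _).symm (e.symm s'))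
  let ψ : Coh.structureModule (↑U : Scheme.{u}) ⟶ M.restrict U.ι := (KFlatLib.lshAdj U.ι).homEquiv _ _ b
  have hψ : ψ ≫ (Scheme.Modules.restrictFunctor U.ι).map g = e.symm s' := by
    show (KFlatLib.lshAdj U.ι).homEquiv _ _ b ≫ _ = _
    rw [← Adjunction.homEquiv_naturality_right, hb, Equiv.apply_symm_apply]
  let t : Γ(M, U.ι ''ᵁ ⊤) := ParaFX.homSectionsEquiv (M.restrict U.ι) ψ
  have ht : g.app (U.ι ''ᵁ ⊤) t = s' := by
    refine (ParaFX.homSectionsEquiv_comp ψ ((Scheme.Modules.restrictFunctor U.ι).map g)).symm.trans ?_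
    rw [hψ]
    exact e.apply_symm_apply s'
  refine ⟨AModX.res M hWU.ge t, ?_⟩
  refine (AModX.app_res g hWU.ge t).trans ?_
  rw [ht]
  show AModX.res N hWU.ge (AModX.res N hWU.le s) = s
  rw [AModX.res_res]
  show N.presheaf.map (homOfLE le_rfl).op s = s
  rw [show (homOfLE (le_refl U)).op = 𝟙 (op U) from rfl, N.presheaf.map_id]
  rfl

variable {Y : Scheme.{u}} (f : X ⟶ Y) (S : ShortComplex X.Modules) (hS : S.ShortExact)
  [ModSite.HasSheafHom (O := X.sheaf) S.X₁] [ModSite.HasSheafHom (O := X.sheaf) S.X₂]
  [ModSite.HasSheafHom (O := X.sheaf) S.X₃]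

/-- `Hom(S, G)`. -/
def homShort (G : X.Modules) : ShortComplex X.Modules :=
  ShortComplex.mk ((shMap S.g).app G) ((shMap S.f).app G) (by rw [← shMap_comp, S.zero, shMap_zero])

include hS in
theorem shortExact_map_homShort (G : X.Modules) [Injective G] :
    ((homShort S G).map (Scheme.Modules.pushforward f)).ShortExact := by
  haveI := hS.mono_f
  haveI := hS.epi_g
  have hmono : Mono ((shMap S.g).app G) := by
    refine ⟨fun {Z} a b hab => mate.injective ?_⟩
    haveI : PreservesColimitsOfSize.{u, u} ((DCoh.tensorBi (X := X)).obj Z) :=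
      ⟨fun {K} _ => inferInstance⟩
    haveI : PreservesColimitsOfSize.{0, 0} ((DCoh.tensorBi (X := X)).obj Z) :=
      preservesColimitsOfSize_shrink.{0, u, 0, u} _
    haveI : Epi (((DCoh.tensorBi (X := X)).obj Z).map S.g) := inferInstance
    rw [← cancel_epi (((DCoh.tensorBi (X := X)).obj Z).map S.g), ← mate_shMap, ← mate_shMap, hab]
  have hex : (homShort S G).Exact := by
    haveI : Mono (homShort S G).f := hmono
    refine ShortComplex.exact_of_f_is_kernel _ (KernelFork.IsLimit.ofι' _ _ fun {Z} a ha => ?_)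
    haveI : PreservesColimitsOfSize.{u, u} ((DCoh.tensorBi (X := X)).obj Z) :=
      ⟨fun {K} _ => inferInstance⟩
    haveI : PreservesColimitsOfSize.{0, 0} ((DCoh.tensorBi (X := X)).obj Z) :=
      preservesColimitsOfSize_shrink.{0, u, 0, u} _
    let T := (DCoh.tensorBi (X := X)).obj Z
    haveI : T.PreservesZeroMorphisms := inferInstance
    let hc := CokernelCofork.mapIsColimit _ hS.gIsCokernel T
    replace ha : a ≫ (shMap S.f).app G = 0 := ha
    have h0 : T.map S.f ≫ mate a = 0 := by rw [← mate_shMap, ha, mate_zero]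
    obtain ⟨d, hd⟩ := CokernelCofork.IsColimit.desc' hc (mate a) h0
    refine ⟨mate.symm d, mate.injective ?_⟩
    show mate (_ ≫ (shMap S.g).app G) = _
    rw [mate_shMap, Equiv.apply_symm_apply]
    exact hd
  have hlift : ∀ (U : X.Opens) (a : freeOn U ⟶ (SH S.X₁).obj G), ∃ b, b ≫ (shMap S.f).app G = a := fun U a => by
    let T := (DCoh.tensorBi (X := X)).obj (freeOn U)
    haveI : Mono (T.map S.f) := by
      have h0 : (ShortComplex.mk (0 : S.X₁ ⟶ S.X₁) S.f zero_comp).Exact :=
        (ShortComplex.exact_iff_mono _ rfl).2 inferInstance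
      have h1 := exact_freeOn U h0
      exact (ShortComplex.exact_iff_mono _ (by simp [T])).1 h1
    refine ⟨mate.symm (Injective.factorThru (mate a) (T.map S.f)), mate.injective ?_⟩
    rw [mate_shMap, Equiv.apply_symm_apply]
    exact Injective.comp_factorThru _ _
  haveI : Mono ((homShort S G).map (Scheme.Modules.pushforward f)).f := by
    haveI : Mono (homShort S G).f := hmono
    exact (Scheme.Modules.pushforward f).map_mono (homShort S G).f
  haveI : Epi ((homShort S G).map (Scheme.Modules.pushforward f)).g := by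
    refine HomShX.epi_of_stalk _ fun y θ => ?_
    obtain ⟨V, hyV, s, rfl⟩ := TopCat.Presheaf.exists_germ_eq
      ((Scheme.Modules.pushforward f).obj ((SH S.X₁).obj G)).presheaf θ
    obtain ⟨t, ht⟩ := app_surjective_of_freeOn _ hlift (f ⁻¹ᵁ V) s
    refine ⟨((Scheme.Modules.pushforward f).obj ((SH S.X₂).obj G)).presheaf.germ V y hyV t, ?_⟩
    refine (RefHull.stalkMapₗ_germ ((Scheme.Modules.pushforward f).map ((shMap S.f).app G)) y hyV t).trans ?_
    exact congrArg (fun v => ((Scheme.Modules.pushforward f).obj ((SH S.X₁).obj G)).presheaf.germ V y hyV v) ht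
  haveI : Mono (homShort S G).f := hmono
  exact ⟨hex.map_of_mono_of_preservesKernel (Scheme.Modules.pushforward f) inferInstance inferInstance⟩

end Groth.Agent.RelExtLES
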